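/-
Coordinates for a faithful natural `SL₂` module `(V, L)`: a basis in which a given Sylow subgroup of `L`
becomes the upper unitriangular group.
-/
import Cfsg.Prelude.Def_LocalEven
import Cfsg.Agent.Lib.QdOver.Basic

set_option autoImplicit false

namespace Cfsg.Agent.NatSL2

open Matrix
open scoped commutatorElement

variable {G : Type*} [Group G] {F : Type*} [Field F]

/-- `M` fixes the first basis vector. -/
def IsU (M : SpecialLinearGroup (Fin 2) F) : Prop := M.1 0 0 = 1 ∧ M.1 1 0 = 0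

theorem det_eq (M : SpecialLinearGroup (Fin 2) F) : M.1 0 0 * M.1 1 1 - M.1 0 1 * M.1 1 0 = 1 := by
  have h := M.2
  rwa [Matrix.det_fin_two] at h

theorem IsU.one_one {M : SpecialLinearGroup (Fin 2) F} (h : IsU M) : M.1 1 1 = 1 := by
  have := det_eq M
  rwa [h.1, h.2, mul_zero, sub_zero, one_mul] at this

theorem IsU.eq_up {M : SpecialLinearGroup (Fin 2) F} (h : IsU M) : M = QdOver.up (M.1 0 1) :=
  Subtype.ext <| by
    show M.1 = !![1, M.1 0 1; 0, 1]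
    conv_lhs => rw [Matrix.eta_fin_two M.1, h.1, h.2, h.one_one]

theorem isU_up (x : F) : IsU (QdOver.up x) := ⟨rfl, rfl⟩

theorem up_mul (x y : F) : QdOver.up (x + y) = QdOver.up x * QdOver.up y := Subtype.ext <| by
  show !![1, x + y; 0, 1] = !![1, x; 0, 1] * !![1, y; 0, 1]
  simp [add_comm]

theorem mulVec_apply (M : SpecialLinearGroup (Fin 2) F) (w : Fin 2 → F) :
    M.1 *ᵥ w = ![M.1 0 0 * w 0 + M.1 0 1 * w 1, M.1 1 0 * w 0 + M.1 1 1 * w 1] := by
  funext i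
  fin_cases i <;> simp [Matrix.mulVec, dotProduct, Fin.sum_univ_two]

theorem vec_eq {w : Fin 2 → F} {a b : F} (h0 : w 0 = a) (h1 : w 1 = b) : w = ![a, b] := by
  funext i
  fin_cases i <;> simp [h0, h1]

theorem isU_iff (M : SpecialLinearGroup (Fin 2) F) : IsU M ↔ M.1 *ᵥ ![1, 0] = ![1, 0] := by
  rw [mulVec_apply]
  constructor
  · intro h; simp [h.1, h.2]
  · intro h
    exact ⟨by simpa using congrFun h 0, by simpa using congrFun h 1⟩

theorem IsU.mulVec {M : SpecialLinearGroup (Fin 2) F} (h : IsU M) (w : Fin 2 → F) :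
    M.1 *ᵥ w = ![w 0 + M.1 0 1 * w 1, w 1] := by
  rw [mulVec_apply, h.1, h.2, h.one_one]
  simp

theorem exists_sl2_column {v : Fin 2 → F} (hv : v ≠ 0) :
    ∃ g : SpecialLinearGroup (Fin 2) F, g.1 *ᵥ ![1, 0] = v := by
  by_cases h : v 0 = 0
  · have h1 : v 1 ≠ 0 := fun h1 => hv (funext fun i => by fin_cases i <;> assumption)
    refine ⟨⟨!![v 0, -(v 1)⁻¹; v 1, 0], by rw [Matrix.det_fin_two_of]; field_simp; ring⟩, ?_⟩
    funext i
    fin_cases i <;> simp [Matrix.mulVec, dotProduct, Fin.sum_univ_two]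
  · refine ⟨⟨!![v 0, 0; v 1, (v 0)⁻¹], by rw [Matrix.det_fin_two_of]; field_simp; ring⟩, ?_⟩
    funext i
    fin_cases i <;> simp [Matrix.mulVec, dotProduct, Fin.sum_univ_two]

theorem charP_of_card [Fintype F] {p : ℕ} [hp : Fact p.Prime] {n : ℕ}
    (hF : Fintype.card F = p ^ n) : CharP F p := by
  obtain ⟨q, hq⟩ := CharP.exists F
  obtain ⟨m, hqp, hm⟩ := FiniteField.card F q
  have hqe : q = p := by
    rw [hm] at hF
    exact Nat.prime_eq_prime_of_dvd_pow hqp hp.out (hF ▸ dvd_pow_self q m.ne_zero)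
  exact hqe ▸ hq

theorem pow_up {p : ℕ} [CharP F p] (x : F) : QdOver.up x ^ p = 1 := by
  have h : ∀ k : ℕ, QdOver.up x ^ k = QdOver.up ((k : F) * x) := by
    intro k
    induction k with
    | zero =>
      refine Subtype.ext ?_
      show (1 : Matrix (Fin 2) (Fin 2) F) = !![1, ((0 : ℕ) : F) * x; 0, 1]
      simp [Matrix.one_fin_two]
    | succ k ih =>
      rw [pow_succ, ih, ← up_mul]
      congr 1
      push_cast; ring
  rw [h p, CharP.cast_eq_zero, zero_mul]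
  exact Subtype.ext (by show !![1, (0 : F); 0, 1] = 1; simp [Matrix.one_fin_two])

/-- The upper unitriangular group. -/
def upperU : Subgroup (SpecialLinearGroup (Fin 2) F) where
  carrier := {M | IsU M}
  one_mem' := ⟨rfl, rfl⟩
  mul_mem' := fun {a b} ha hb => by
    show IsU (a * b)
    rw [isU_iff] at *
    rw [Matrix.SpecialLinearGroup.coe_mul, ← Matrix.mulVec_mulVec, (isU_iff b).mp hb, (isU_iff a).mp ha]
  inv_mem' := fun {a} ha => by
    show IsU a⁻¹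
    rw [isU_iff]
    have h := congrArg (fun w => (a⁻¹).1 *ᵥ w) ((isU_iff a).mp ha)
    simp only [Matrix.mulVec_mulVec, ← Matrix.SpecialLinearGroup.coe_mul, inv_mul_cancel,
      Matrix.SpecialLinearGroup.coe_one, Matrix.one_mulVec] at h
    exact h.symm

theorem isPGroup_upperU {p : ℕ} [CharP F p] :
    IsPGroup p (upperU (F := F)) := fun M =>
  ⟨1, Subtype.ext (by rw [pow_one, SubmonoidClass.coe_pow, IsU.eq_up M.2]; exact pow_up _)⟩

/-- Coordinates. -/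
structure Coord (F : Type*) [Field F] (V L : Subgroup G) (T : Subgroup G) where
  nor : L ≤ Subgroup.normalizer (V : Set G)
  e : ↥L ≃* SpecialLinearGroup (Fin 2) F
  ψ : Additive ↥V ≃+ (Fin 2 → F)
  act : ∀ (l : L) (v : V), ψ (Additive.ofMul ⟨(l : G) * (v : G) * (l : G)⁻¹,
    (Subgroup.mem_normalizer_iff.mp (nor l.2) v).mp v.2⟩) = (e l).1 *ᵥ ψ (Additive.ofMul v)
  le : T ≤ L
  mem_iff : ∀ l : L, (l : G) ∈ T ↔ IsU (e l)

theorem exists_coord [Finite G] [Fintype F] {p : ℕ} [Fact p.Prime] {n : ℕ}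
    (hF : Fintype.card F = p ^ n) {V L : Subgroup G} (hnat : Cfsg.IsNaturalSL2Module F V L)
    (hf : L ⊓ Subgroup.centralizer (V : Set G) = ⊥) (S : Sylow p ↥L) {T : Subgroup G}
    (hT : T = (S : Subgroup ↥L).map L.subtype) : Nonempty (Coord F V L T) := by
  haveI := charP_of_card hF
  obtain ⟨hLV, ρ, ψ, hsurj, hker, hact⟩ := hnat
  have hinj : Function.Injective ρ := by
    rw [← MonoidHom.ker_eq_bot_iff, hker, Subgroup.eq_bot_iff_forall]
    intro x hx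
    exact Subtype.ext (Subgroup.mem_bot.mp (hf ▸ (⟨x.2, Subgroup.mem_subgroupOf.mp hx⟩ :
      (x : G) ∈ L ⊓ Subgroup.centralizer (V : Set G))))
  let e₀ : ↥L ≃* SpecialLinearGroup (Fin 2) F := MulEquiv.ofBijective ρ ⟨hinj, hsurj⟩
  set P := (S : Subgroup ↥L).map e₀.toMonoidHom with hP
  obtain ⟨v, hv, hfix⟩ := QdOver.exists_fixed_vector (S.isPGroup'.map e₀.toMonoidHom)
  obtain ⟨g, hg⟩ := exists_sl2_column hv
  let e : ↥L ≃* SpecialLinearGroup (Fin 2) F := e₀.trans (MulAut.conj g⁻¹)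
  have hcancel : ∀ w : Fin 2 → F, (g⁻¹).1 *ᵥ (g.1 *ᵥ w) = w := fun w => by
    rw [Matrix.mulVec_mulVec, ← Matrix.SpecialLinearGroup.coe_mul, inv_mul_cancel,
      Matrix.SpecialLinearGroup.coe_one, Matrix.one_mulVec]
  have hcancel' : ∀ w : Fin 2 → F, g.1 *ᵥ ((g⁻¹).1 *ᵥ w) = w := fun w => by
    rw [Matrix.mulVec_mulVec, ← Matrix.SpecialLinearGroup.coe_mul, mul_inv_cancel,
      Matrix.SpecialLinearGroup.coe_one, Matrix.one_mulVec]
  let ψ' : Additive ↥V ≃+ (Fin 2 → F) := ψ.trans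
    { toFun := fun w => (g⁻¹).1 *ᵥ w
      invFun := fun w => g.1 *ᵥ w
      left_inv := hcancel'
      right_inv := hcancel
      map_add' := fun _ _ => Matrix.mulVec_add _ _ _ }
  have hU : (S : Subgroup ↥L).map e.toMonoidHom = upperU := by
    have hle : (S : Subgroup ↥L).map e.toMonoidHom ≤ upperU := by
      rintro _ ⟨s, hs, rfl⟩
      show IsU (g⁻¹ * e₀ s * g⁻¹⁻¹)
      rw [isU_iff, inv_inv, Matrix.SpecialLinearGroup.coe_mul, Matrix.SpecialLinearGroup.coe_mul,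
        ← Matrix.mulVec_mulVec, ← Matrix.mulVec_mulVec, hg,
        hfix (e₀ s) ⟨s, hs, rfl⟩, ← hg, hcancel]
    refine le_antisymm hle ?_
    have h1 : (upperU (F := F)).comap e.toMonoidHom = (S : Subgroup ↥L) := by
      refine S.is_maximal' ((isPGroup_upperU (p := p)).comap_of_injective _ e.injective) ?_
      exact Subgroup.map_le_iff_le_comap.mp hle
    intro M hM
    refine ⟨e.symm M, ?_, e.apply_symm_apply M⟩
    rw [SetLike.mem_coe, ← h1, Subgroup.mem_comap]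
    rwa [MulEquiv.coe_toMonoidHom, e.apply_symm_apply]
  refine ⟨⟨hLV, e, ψ', fun l v => ?_, hT ▸ Subgroup.map_subtype_le _, fun l => ?_⟩⟩
  · obtain ⟨w, hw, hψ⟩ := hact l v
    have hwe : w = ⟨(l : G) * (v : G) * (l : G)⁻¹,
        (Subgroup.mem_normalizer_iff.mp (hLV l.2) v).mp v.2⟩ := Subtype.ext hw
    show (g⁻¹).1 *ᵥ ψ (Additive.ofMul _) = (g⁻¹ * ρ l * g⁻¹⁻¹).1 *ᵥ ((g⁻¹).1 *ᵥ ψ (Additive.ofMul v))
    rw [← hwe, hψ, inv_inv, Matrix.SpecialLinearGroup.coe_mul, Matrix.SpecialLinearGroup.coe_mul,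
      ← Matrix.mulVec_mulVec, ← Matrix.mulVec_mulVec, hcancel']
  · show (l : G) ∈ T ↔ e l ∈ upperU
    rw [← hU, hT]
    constructor
    · rintro ⟨s, hs, hse⟩
      exact ⟨s, hs, congrArg e (Subtype.ext hse : s = l)⟩
    · rintro ⟨s, hs, hse⟩
      exact ⟨s, hs, congrArg Subtype.val (e.injective hse)⟩

namespace Coord

variable {V L T : Subgroup G} (D : Coord F V L T)
include D

/-- The coordinates of an element of `V`. -/
def co (v : ↥V) : Fin 2 → F := D.ψ (Additive.ofMul v)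

/-- The element with given coordinates. -/
def el (w : Fin 2 → F) : ↥V := Additive.toMul (D.ψ.symm w)

theorem co_el (w : Fin 2 → F) : D.co (D.el w) = w := D.ψ.apply_symm_apply w

theorem co_injective : Function.Injective D.co := fun _ _ h =>
  Additive.ofMul.injective (D.ψ.injective h)

theorem co_mul (v w : ↥V) : D.co (v * w) = D.co v + D.co w := D.ψ.map_add _ _

theorem co_inv (v : ↥V) : D.co v⁻¹ = -D.co v := D.ψ.map_neg _

theorem co_one : D.co 1 = 0 := D.ψ.map_zero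

theorem comm (a b : G) (ha : a ∈ V) (hb : b ∈ V) : a * b = b * a :=
  congrArg Subtype.val (D.co_injective (a₁ := (⟨a, ha⟩ : ↥V) * ⟨b, hb⟩) (a₂ := ⟨b, hb⟩ * ⟨a, ha⟩)
    (by rw [D.co_mul, D.co_mul, add_comm]))

theorem conj_mem {l v : G} (hl : l ∈ L) (hv : v ∈ V) : l * v * l⁻¹ ∈ V :=
  (Subgroup.mem_normalizer_iff.mp (D.nor hl) v).mp hv

theorem co_conj {l v : G} (hl : l ∈ L) (hv : v ∈ V) :
    D.co ⟨l * v * l⁻¹, D.conj_mem hl hv⟩ = (D.e ⟨l, hl⟩).1 *ᵥ D.co ⟨v, hv⟩ := D.act ⟨l, hl⟩ ⟨v, hv⟩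

theorem fixed_iff {l v : G} (hl : l ∈ L) (hv : v ∈ V) :
    l * v = v * l ↔ (D.e ⟨l, hl⟩).1 *ᵥ D.co ⟨v, hv⟩ = D.co ⟨v, hv⟩ := by
  rw [← D.co_conj hl hv, D.co_injective.eq_iff, Subtype.mk.injEq]
  exact mul_inv_eq_iff_eq_mul.symm

/-- `C_V(T)` is the first axis. -/
theorem mem_centralizer_iff {v : G} (hv : v ∈ V) :
    v ∈ Subgroup.centralizer (T : Set G) ↔ D.co ⟨v, hv⟩ 1 = 0 := by
  constructor
  · intro h
    set l : ↥L := D.e.symm (QdOver.up 1) with hl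
    have hlT : (l : G) ∈ T := (D.mem_iff l).mpr (by
      rw [hl, MulEquiv.apply_symm_apply]; exact isU_up 1)
    have h1 := (D.fixed_iff l.2 hv).mp (h l hlT)
    have h2 := congrFun h1 0
    rw [show D.e ⟨(l : G), l.2⟩ = QdOver.up 1 from D.e.apply_symm_apply _, (isU_up 1).mulVec] at h2
    simpa [QdOver.up] using h2
  · intro h t ht
    refine (D.fixed_iff (D.le ht) hv).mpr ?_
    rw [((D.mem_iff ⟨t, D.le ht⟩).mp ht).mulVec]
    funext i
    fin_cases i <;> simp [h]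

/-- The coordinates of a commutator with an element of `T`. -/
theorem commutator_mem {t v : G} (ht : t ∈ T) (hv : v ∈ V) :
    ∃ h : v * t * v⁻¹ * t⁻¹ ∈ V, D.co ⟨v * t * v⁻¹ * t⁻¹, h⟩ =
      ![-((D.e ⟨t, D.le ht⟩).1 0 1 * D.co ⟨v, hv⟩ 1), 0] := by
  have h1 := D.conj_mem (D.le ht) (V.inv_mem hv)
  have he : v * t * v⁻¹ * t⁻¹ = v * (t * v⁻¹ * t⁻¹) := by group
  refine ⟨by rw [he]; exact V.mul_mem hv h1, ?_⟩
  rw [show (⟨v * t * v⁻¹ * t⁻¹, (by rw [he]; exact V.mul_mem hv h1)⟩ : ↥V) =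
    (⟨v, hv⟩ : ↥V) * ⟨t * v⁻¹ * t⁻¹, h1⟩ from Subtype.ext he, D.co_mul, D.co_conj (D.le ht) (V.inv_mem hv),
    show (⟨v⁻¹, V.inv_mem hv⟩ : ↥V) = (⟨v, hv⟩ : ↥V)⁻¹ from rfl, D.co_inv,
    ((D.mem_iff ⟨t, D.le ht⟩).mp ht).mulVec]
  funext i
  fin_cases i <;> simp

/-- The element with given coordinates as an element of `C_V(T)`. -/
theorem el_mem (c : F) :
    (D.el ![c, 0] : G) ∈ V ⊓ Subgroup.centralizer (T : Set G) := by
  refine ⟨(D.el _).2, (D.mem_centralizer_iff (D.el _).2).mpr ?_⟩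
  rw [Subtype.coe_eta, D.co_el]
  rfl

theorem card_eq [Fintype F] : Nat.card V = Fintype.card F ^ 2 := by
  rw [Nat.card_congr (Additive.ofMul.trans D.ψ.toEquiv), Nat.card_fun, Nat.card_eq_fintype_card,
    Nat.card_eq_fintype_card, Fintype.card_fin]

theorem card_centralizer [Fintype F] :
    Nat.card ↥(V ⊓ Subgroup.centralizer (T : Set G)) = Fintype.card F := by
  rw [← Nat.card_eq_fintype_card]
  refine (Nat.card_congr (Equiv.ofBijective (fun c : F =>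
    (⟨(D.el ![c, 0] : G), D.el_mem c⟩ : ↥(V ⊓ Subgroup.centralizer (T : Set G)))) ⟨fun a b h => ?_,
      fun v => ?_⟩)).symm
  · have h0 : (D.el ![a, 0] : G) = D.el ![b, 0] :=
      congrArg (fun x : ↥(V ⊓ Subgroup.centralizer (T : Set G)) => (x : G)) h
    have h1 := congrArg D.co (Subtype.ext h0 : D.el ![a, 0] = D.el ![b, 0])
    rw [D.co_el, D.co_el] at h1
    simpa using congrFun h1 0
  · refine ⟨D.co ⟨v, v.2.1⟩ 0, Subtype.ext ?_⟩
    show (D.el _ : G) = _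
    rw [← vec_eq rfl ((D.mem_centralizer_iff v.2.1).mp v.2.2)]
    exact congrArg Subtype.val (D.co_injective (D.co_el _) : D.el _ = (⟨(v : G), v.2.1⟩ : ↥V))

/-- An element of `L` with lower left entry `0` normalises `T`. -/
theorem mem_normalizer {l : G} (hl : l ∈ L) (h : (D.e ⟨l, hl⟩).1 1 0 = 0) :
    l ∈ Subgroup.normalizer (T : Set G) := by
  have key : ∀ m : ↥L, (D.e m).1 1 0 = 0 → ∀ t ∈ T, (m : G) * t * (m : G)⁻¹ ∈ T := by
    intro m hm t ht
    show (((m * ⟨t, D.le ht⟩ * m⁻¹ : ↥L)) : G) ∈ T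
    rw [D.mem_iff, map_mul, map_mul, map_inv]
    set M := D.e m
    have hU := (D.mem_iff ⟨t, D.le ht⟩).mp ht
    set U := D.e ⟨t, D.le ht⟩
    rw [isU_iff]
    have hMe : M.1 *ᵥ ![1, 0] = M.1 0 0 • ![1, 0] := by
      rw [mulVec_apply]; funext i; fin_cases i <;> simp [hm]
    have hM0 : M.1 0 0 ≠ 0 := fun h0 => by
      have := det_eq M; simp [h0, hm] at this
    have hinv : (M⁻¹).1 *ᵥ ![1, 0] = (M.1 0 0)⁻¹ • ![1, 0] := by
      have := congrArg (fun w => (M⁻¹).1 *ᵥ w) hMe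
      simp only [Matrix.mulVec_mulVec, ← Matrix.SpecialLinearGroup.coe_mul, inv_mul_cancel,
        Matrix.SpecialLinearGroup.coe_one, Matrix.one_mulVec, Matrix.mulVec_smul] at this
      exact (eq_inv_smul_iff₀ hM0).mpr this.symm
    rw [Matrix.SpecialLinearGroup.coe_mul, Matrix.SpecialLinearGroup.coe_mul, ← Matrix.mulVec_mulVec,
      ← Matrix.mulVec_mulVec, hinv, Matrix.mulVec_smul, (isU_iff U).mp hU, Matrix.mulVec_smul, hMe,
      smul_smul, inv_mul_cancel₀ hM0, one_smul]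
  rw [Subgroup.mem_normalizer_iff]
  intro t
  refine ⟨key ⟨l, hl⟩ h t, fun ht => ?_⟩
  have := key (⟨l, hl⟩ : ↥L)⁻¹ (by rw [map_inv, Matrix.SpecialLinearGroup.coe_inv, Matrix.adjugate_fin_two]; simp [h]) _ ht
  simpa [mul_assoc] using this

/-- A torus element. -/
theorem exists_torus {t : F} (ht : t ≠ 0) : ∃ l : G, ∃ hl : l ∈ L,
    l ∈ Subgroup.normalizer (T : Set G) ∧
    ∀ (v : G) (hv : v ∈ V), D.co ⟨l * v * l⁻¹, D.conj_mem hl hv⟩ =
      ![t * D.co ⟨v, hv⟩ 0, t⁻¹ * D.co ⟨v, hv⟩ 1] := by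
  set M : SpecialLinearGroup (Fin 2) F :=
    ⟨!![t, 0; 0, t⁻¹], by rw [Matrix.det_fin_two_of]; field_simp; ring⟩ with hM
  set l := D.e.symm M with hl
  refine ⟨l, l.2, D.mem_normalizer l.2 ?_, fun v hv => ?_⟩
  · rw [Subtype.coe_eta, hl, MulEquiv.apply_symm_apply]; rfl
  · rw [D.co_conj l.2 hv, Subtype.coe_eta, hl, MulEquiv.apply_symm_apply, mulVec_apply, hM]
    simp

end Coord

end Cfsg.Agent.NatSL2
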