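/-
For `H ≅ SL₂(p^n)` faithful on an elementary abelian `p`-group `V`, every element of order `p` of `H`
has centraliser of index at least `p^n` in `V`: a primitive element of `p^{2n} - 1` is, up to squaring,
a product of two conjugates of the element.
-/
import Cfsg.Agent.Lib.NatSL2.Basic
import Cfsg.Agent.Lib.Zsigmondy.Basic
import Cfsg.Agent.Lib.GLOrder.Basic

set_option autoImplicit false

namespace Cfsg.Agent.NatSL2

open Matrix

variable {F : Type*} [Field F]

theorem mul_self_eq (M : Matrix.SpecialLinearGroup (Fin 2) F) :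
    M.1 * M.1 = (M.1 0 0 + M.1 1 1) • M.1 - 1 := by
  have h := det_eq M
  ext i j
  fin_cases i <;> fin_cases j <;>
    simp [Matrix.mul_apply, Fin.sum_univ_two]
  · linear_combination -h
  · ring
  · ring
  · linear_combination -h

theorem exists_pow_eq (τ : F) : ∀ k : ℕ, ∃ α β : F, ∀ M : Matrix.SpecialLinearGroup (Fin 2) F,
    M.1 0 0 + M.1 1 1 = τ → M.1 ^ k = α • M.1 + β • (1 : Matrix (Fin 2) (Fin 2) F)
  | 0 => ⟨0, 1, fun M _ => by simp⟩
  | k + 1 => by
    obtain ⟨α, β, h⟩ := exists_pow_eq τ k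
    refine ⟨α * τ + β, -α, fun M hM => ?_⟩
    rw [pow_succ, h M hM, add_mul, smul_mul_assoc, smul_mul_assoc, one_mul, mul_self_eq M, hM]
    module

/-- `M` is a scalar matrix. -/
def IsSc (M : Matrix.SpecialLinearGroup (Fin 2) F) : Prop :=
  ∃ l : F, M.1 = l • (1 : Matrix (Fin 2) (Fin 2) F)

theorem pow_eq_one_of_trace {M N : Matrix.SpecialLinearGroup (Fin 2) F} (hM : ¬ IsSc M)
    (hN : ¬ IsSc N) (h : M.1 0 0 + M.1 1 1 = N.1 0 0 + N.1 1 1) (j : ℕ) : M ^ j = 1 ↔ N ^ j = 1 := by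
  obtain ⟨α, β, hk⟩ := exists_pow_eq (M.1 0 0 + M.1 1 1) j
  have key : ∀ {A B : Matrix.SpecialLinearGroup (Fin 2) F}, ¬ IsSc A →
      A.1 ^ j = α • A.1 + β • (1 : Matrix (Fin 2) (Fin 2) F) →
      B.1 ^ j = α • B.1 + β • (1 : Matrix (Fin 2) (Fin 2) F) → A ^ j = 1 → B ^ j = 1 := by
    intro A B hA eA eB h1
    have h2 : α • A.1 + β • (1 : Matrix (Fin 2) (Fin 2) F) = 1 := by
      rw [← eA, ← Matrix.SpecialLinearGroup.coe_pow, h1, Matrix.SpecialLinearGroup.coe_one]
    have hα : α = 0 := by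
      by_contra hα
      refine hA ⟨α⁻¹ * (1 - β), ?_⟩
      have h3 : α • A.1 = (1 - β) • (1 : Matrix (Fin 2) (Fin 2) F) := by
        rw [sub_smul, one_smul, eq_sub_iff_add_eq, h2]
      rw [← smul_smul, ← h3, inv_smul_smul₀ hα]
    refine Subtype.ext ?_
    rw [Matrix.SpecialLinearGroup.coe_pow, Matrix.SpecialLinearGroup.coe_one, eB]
    rw [hα, zero_smul, zero_add] at h2 ⊢
    exact h2
  exact ⟨key hM (hk M rfl) (hk N h.symm), key hN (hk N h.symm) (hk M rfl)⟩

/-- An element of odd prime power order which lies in no proper part of `p^{2n} - 1`. -/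
theorem exists_big_element [Fintype F] {p n : ℕ} [hp : Fact p.Prime]
    (hF : Fintype.card F = p ^ n) (hn : 2 ≤ n) :
    ∃ (x : Matrix.SpecialLinearGroup (Fin 2) F) (r k : ℕ), r.Prime ∧ r ≠ 2 ∧ r ≠ p ∧
      orderOf x = r ^ (k + 1) ∧ ∀ d : ℕ, 0 < d → r ^ (k + 1) ∣ p ^ d - 1 → 2 * n ≤ d := by
  haveI := charP_of_card hF
  by_cases h6 : p = 2 ∧ n = 3
  · obtain ⟨rfl, rfl⟩ := h6
    have h2 : (2 : F) = 0 := by exact_mod_cast CharP.cast_eq_zero F 2
    obtain ⟨τ, hτ⟩ : ∃ τ : F, τ ^ 3 + τ + 1 = 0 := by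
      classical
      obtain ⟨a, ha⟩ : ∃ a : F, a ∉ ({0, 1} : Finset F) := by
        by_contra hall
        push_neg at hall
        have := Finset.card_le_card (fun a (_ : a ∈ (Finset.univ : Finset F)) => hall a)
        rw [Finset.card_univ, hF] at this
        exact absurd (this.trans (Finset.card_le_two)) (by norm_num)
      simp only [Finset.mem_insert, Finset.mem_singleton, not_or] at ha
      obtain ⟨ha0, ha1⟩ := ha
      have h7 : a ^ 7 = 1 := by
        have := FiniteField.pow_card_sub_one_eq_one a ha0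
        rwa [hF] at this
      have hsplit : (a - 1) * ((a ^ 3 + a + 1) * (a ^ 3 + a ^ 2 + 1)) = 0 := by
        linear_combination h7 + (a ^ 4 - a ^ 3) * h2
      rcases mul_eq_zero.mp ((mul_eq_zero.mp hsplit).resolve_left (sub_ne_zero.mpr ha1)) with h | h
      · exact ⟨a, h⟩
      · refine ⟨a⁻¹, ?_⟩
        field_simp
        linear_combination h
    set x : Matrix.SpecialLinearGroup (Fin 2) F := ⟨!![τ, 1; 1, 0], by
      rw [Matrix.det_fin_two_of]; linear_combination (-1 : F) * h2⟩ with hx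
    have h3 : (x ^ 3).1 = !![τ * τ * τ + τ + τ, τ * τ + 1; τ * τ + 1, τ] := by
      rw [Matrix.SpecialLinearGroup.coe_pow, hx]
      ext i j
      fin_cases i <;> fin_cases j <;> simp [pow_succ, Matrix.mul_apply, Fin.sum_univ_two] <;> ring
    have hne : ¬ (x ^ 3 = 1) := fun h => by
      rw [h, Matrix.SpecialLinearGroup.coe_one] at h3
      have h01 := congrFun (congrFun h3 0) 1
      simp at h01
      have : τ = 1 := by
        have : (τ + 1) * (τ + 1) = 0 := by linear_combination -h01 + τ * h2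
        rcases mul_eq_zero.mp this with h | h <;> linear_combination h - h2
      rw [this] at hτ
      exact one_ne_zero (α := F) (by linear_combination hτ - h2)
    have h9 : x ^ 3 ^ 2 = 1 := by
      rw [show 3 ^ 2 = 3 * 3 from rfl, pow_mul]
      refine Subtype.ext ?_
      set N := x ^ 3
      have htr : N.1 0 0 + N.1 1 1 = 1 := by
        rw [h3]; simp; linear_combination hτ + (τ - 1) * h2
      have hsq := mul_self_eq N
      rw [htr, one_smul] at hsq
      rw [Matrix.SpecialLinearGroup.coe_pow, Matrix.SpecialLinearGroup.coe_one, pow_succ, pow_two,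
        hsq, sub_mul, hsq, one_mul, sub_sub_cancel_left]
      ext i j
      simp only [Matrix.neg_apply]
      linear_combination (-(1 : Matrix (Fin 2) (Fin 2) F) i j) * h2
    refine ⟨x, 3, 1, Nat.prime_three, by norm_num, by norm_num,
      orderOf_eq_prime_pow (by simpa using hne) h9, fun d hd hdvd => ?_⟩
    by_contra hlt
    interval_cases d <;> norm_num at hdvd
  · obtain ⟨r, hr, hrdvd, hrmin⟩ := Zsigmondy.exists_primitive (a := p) (n := 2 * n) hp.out.one_lt
      (by omega) (fun h => h6 ⟨h.1, by omega⟩) (fun h => absurd h.1 (by omega))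
    have hp1 : 1 ≤ p ^ (2 * n) := Nat.one_le_pow _ _ hp.out.pos
    have hrp : r ≠ p := by
      rintro rfl
      have h1 : r ∣ r ^ (2 * n) := dvd_pow_self r (by omega)
      have h2 := Nat.dvd_sub h1 hrdvd
      rw [Nat.sub_sub_self hp1] at h2
      exact hr.one_lt.ne' (Nat.dvd_one.mp h2)
    have hr2 : r ≠ 2 := by
      rintro rfl
      have hodd : Odd p := hp.out.odd_of_ne_two (Ne.symm hrp)
      refine hrmin 1 one_pos (by omega) ?_
      rw [pow_one]
      obtain ⟨s, hs⟩ := hodd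
      exact ⟨s, by omega⟩
    classical
    have hcard : r ∣ Nat.card (Matrix.SpecialLinearGroup (Fin 2) F) := by
      rw [GLOrder.card_SL_two, Nat.card_eq_fintype_card, hF, ← pow_mul, mul_comm n 2]
      exact dvd_mul_of_dvd_right hrdvd _
    haveI := Fact.mk hr
    obtain ⟨x, hx⟩ := exists_prime_orderOf_dvd_card' r hcard
    refine ⟨x, r, 0, hr, hr2, hrp, by rw [hx, zero_add, pow_one], fun d hd hdvd => ?_⟩
    by_contra hlt
    rw [zero_add, pow_one] at hdvd
    exact hrmin d hd (by omega) hdvd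

/-- Some product of two conjugates of `up σ` has square of the same big order. -/
theorem exists_conj_product [Fintype F] {p n : ℕ} [Fact p.Prime]
    (hF : Fintype.card F = p ^ n) (hn : 2 ≤ n) {σ : F} (hσ : σ ≠ 0) :
    ∃ (w : Matrix.SpecialLinearGroup (Fin 2) F) (r k : ℕ), r.Prime ∧ r ≠ 2 ∧ r ≠ p ∧
      orderOf ((QdOver.up σ * (w * QdOver.up σ * w⁻¹)) ^ 2) = r ^ (k + 1) ∧
      ∀ d : ℕ, 0 < d → r ^ (k + 1) ∣ p ^ d - 1 → 2 * n ≤ d := by
  obtain ⟨x, r, k, hr, hr2, hrp, hx, hd⟩ := exists_big_element hF hn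
  set m := r ^ (k + 1) with hm
  have hodd : Odd m := (hr.odd_of_ne_two hr2).pow
  have hm1 : 1 < m := Nat.one_lt_pow (Nat.succ_ne_zero k) hr.one_lt
  have h4 : Nat.Coprime m 4 := (Nat.coprime_two_right.mpr hodd).pow_right 2
  have hx4 : orderOf (x ^ 4) = m := by rw [Nat.Coprime.orderOf_pow (hx.symm ▸ h4), hx]
  set t := x.1 0 0 + x.1 1 1 with ht
  have hx4ne : x ^ 4 ≠ 1 := fun h => by rw [h, orderOf_one] at hx4; omega
  have ht0 : t ≠ 0 := by
    intro h0
    apply hx4ne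
    refine Subtype.ext ?_
    rw [Matrix.SpecialLinearGroup.coe_pow, Matrix.SpecialLinearGroup.coe_one,
      show (4 : ℕ) = 2 * 2 from rfl, pow_mul, pow_two, pow_two, mul_self_eq x, ← ht, h0]
    simp
  have hxsc : ¬ IsSc x := by
    rintro ⟨l, hl⟩
    apply hx4ne
    have hdet := det_eq x
    rw [hl] at hdet
    simp at hdet
    refine Subtype.ext ?_
    rw [Matrix.SpecialLinearGroup.coe_pow, Matrix.SpecialLinearGroup.coe_one, hl, smul_pow, one_pow]
    rw [show l ^ 4 = 1 by linear_combination (l * l + 1) * hdet, one_smul]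
  set y : Matrix.SpecialLinearGroup (Fin 2) F := ⟨-(x.1 * x.1), by
    rw [Matrix.det_neg, Matrix.det_mul, x.2]; simp⟩ with hy
  have hysc : ¬ IsSc y := by
    rintro ⟨l, hl⟩
    refine hxsc ⟨t⁻¹ * (1 - l), ?_⟩
    have h1 : -(x.1 * x.1) = l • (1 : Matrix (Fin 2) (Fin 2) F) := hl
    rw [mul_self_eq x, ← ht, neg_sub, sub_eq_iff_eq_add] at h1
    have h2 : t • x.1 = (1 - l) • (1 : Matrix (Fin 2) (Fin 2) F) := by
      rw [sub_smul, one_smul, eq_sub_iff_add_eq, add_comm, ← h1]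
    rw [← smul_smul, ← h2, inv_smul_smul₀ ht0]
  set c := t / σ with hc
  have hc0 : c ≠ 0 := div_ne_zero ht0 hσ
  set w : Matrix.SpecialLinearGroup (Fin 2) F := ⟨!![0, -c⁻¹; c, 0], by
    rw [Matrix.det_fin_two_of]; field_simp; ring⟩ with hw
  set M := QdOver.up σ * (w * QdOver.up σ * w⁻¹) with hM
  have hMval : M.1 = !![1 - σ * (c * σ * c), σ; -(c * σ * c), 1] := by
    rw [hM, Matrix.SpecialLinearGroup.coe_mul, Matrix.SpecialLinearGroup.coe_mul,
      Matrix.SpecialLinearGroup.coe_mul, Matrix.SpecialLinearGroup.coe_inv, Matrix.adjugate_fin_two,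
      hw, QdOver.up]
    ext i j
    fin_cases i <;> fin_cases j <;> simp [Matrix.mul_apply, Fin.sum_univ_two] <;> field_simp <;> ring
  have hMsc : ¬ IsSc M := by
    rintro ⟨l, hl⟩
    have h01 := congrFun (congrFun hl 0) 1
    rw [hMval] at h01
    simp at h01
    exact hσ h01
  have htr : M.1 0 0 + M.1 1 1 = y.1 0 0 + y.1 1 1 := by
    rw [hMval]
    show (1 - σ * (c * σ * c)) + 1 = (-(x.1 * x.1)) 0 0 + (-(x.1 * x.1)) 1 1
    rw [mul_self_eq x, ← ht, hc]
    simp
    field_simp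
    rw [ht]; ring
  refine ⟨w, r, k, hr, hr2, hrp, ?_, hd⟩
  rw [← hM, show r ^ (k + 1) = orderOf (x ^ 4) from hx4.symm, orderOf_eq_orderOf_iff]
  intro j
  have hy2 : (x ^ 4) ^ j = y ^ (2 * j) := by
    rw [pow_mul]
    congr 1
    refine Subtype.ext ?_
    rw [Matrix.SpecialLinearGroup.coe_pow, Matrix.SpecialLinearGroup.coe_pow,
      show y.1 = -(x.1 * x.1) from rfl, neg_sq, ← pow_two, ← pow_mul]
  rw [← pow_mul, hy2]
  exact pow_eq_one_of_trace hMsc hysc htr (2 * j)

variable {G : Type*} [Group G]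

/-- A free element of prime power order `m` divides `|V : C_V(y)| - 1` up to a power of `p`. -/
theorem dvd_sub_one {p : ℕ} [hp : Fact p.Prime] [Finite G] {V : Subgroup G} (hV : IsPGroup p V)
    {x : G} (hxV : x ∈ Subgroup.normalizer (V : Set G)) {r k : ℕ} (hr : r.Prime) (hrp : r ≠ p)
    (hx : orderOf x = r ^ (k + 1)) (hne : x ^ r ^ k ∉ Subgroup.centralizer (V : Set G)) :
    ∃ d : ℕ, 0 < d ∧ r ^ (k + 1) ∣ p ^ d - 1 ∧
      (V ⊓ Subgroup.centralizer ({x ^ r ^ k} : Set G)).relIndex V = p ^ d := by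
  classical
  set y := x ^ r ^ k with hy
  set C := V ⊓ Subgroup.centralizer ({y} : Set G) with hC
  have hxy : x * y = y * x := by rw [hy, ← pow_succ', ← pow_succ]
  have hmemC : ∀ v, v ∈ C ↔ v ∈ V ∧ y * v = v * y := fun v =>
    and_congr Iff.rfl ⟨fun h => h y rfl, fun h z hz => by rw [Set.mem_singleton_iff.mp hz]; exact h⟩
  have hzy : ∀ g ∈ Subgroup.zpowers x, y * g = g * y := by
    intro g hg
    obtain ⟨i, rfl⟩ := Subgroup.mem_zpowers_iff.mp hg
    exact ((Commute.zpow_left (show Commute x y from hxy) i).eq).symm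
  let α := {v : G // v ∈ V ∧ v ∉ C}
  have hstab : ∀ g ∈ Subgroup.zpowers x, ∀ v : G, v ∈ V ∧ v ∉ C → g * v * g⁻¹ ∈ V ∧ g * v * g⁻¹ ∉ C := by
    intro g hg v hv
    have hgV : g ∈ Subgroup.normalizer (V : Set G) := (Subgroup.zpowers_le.mpr hxV) hg
    refine ⟨(Subgroup.mem_normalizer_iff.mp hgV v).mp hv.1, fun h => hv.2 ((hmemC v).mpr ⟨hv.1, ?_⟩)⟩
    have h1 := ((hmemC _).mp h).2
    have h2 := hzy g hg
    have h3 : g * (y * v) * g⁻¹ = g * (v * y) * g⁻¹ := by
      calc g * (y * v) * g⁻¹ = y * (g * v * g⁻¹) := by rw [← mul_assoc g, ← h2]; group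
        _ = g * v * g⁻¹ * y := h1
        _ = g * v * (g⁻¹ * y) := by group
        _ = g * v * (y * g⁻¹) := by
            rw [show g⁻¹ * y = y * g⁻¹ from (hzy g⁻¹ (inv_mem hg)).symm]
        _ = g * (v * y) * g⁻¹ := by group
    exact mul_left_cancel (mul_right_cancel h3)
  let act : MulAction ↥(Subgroup.zpowers x) α :=
    { smul := fun g v => ⟨(g : G) * v.1 * (g : G)⁻¹, hstab g g.2 v.1 v.2⟩
      one_smul := fun v => Subtype.ext (by show (1 : G) * v.1 * (1 : G)⁻¹ = v.1; group)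
      mul_smul := fun g h v => Subtype.ext (by
        show ((g : G) * h) * v.1 * ((g : G) * h)⁻¹ = (g : G) * ((h : G) * v.1 * (h : G)⁻¹) * (g : G)⁻¹
        group) }
  have hfree : ∀ v : α, MulAction.stabilizer ↥(Subgroup.zpowers x) v = ⊥ := by
    intro v
    by_contra hne'
    obtain ⟨⟨g, hg⟩, hgs, hg1⟩ := (Subgroup.bot_or_exists_ne_one _).resolve_left hne'
    have hfix : g * v.1 * g⁻¹ = v.1 := congrArg Subtype.val hgs
    have hcomm : Commute g v.1 := mul_inv_eq_iff_eq_mul.mp hfix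
    refine v.2.2 ((hmemC _).mpr ⟨v.2.1, ?_⟩)
    have hgo : orderOf g ∣ r ^ (k + 1) := hx ▸ orderOf_dvd_of_mem_zpowers hg
    have hg1' : g ≠ 1 := fun h => hg1 (Subtype.ext h)
    obtain ⟨i, hi, hgi⟩ := (Nat.dvd_prime_pow hr).mp hgo
    have hi0 : i ≠ 0 := fun h => hg1' (orderOf_eq_one_iff.mp (by rw [hgi, h, pow_zero]))
    have hymem : y ∈ Subgroup.zpowers g := by
      obtain ⟨j, rfl⟩ := (isOfFinOrder_of_finite x).mem_powers_iff_mem_zpowers.mpr hg
      have hgcd : Nat.gcd j (r ^ (k + 1)) ∣ r ^ k := by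
        obtain ⟨l, hl, hgl⟩ := (Nat.dvd_prime_pow hr).mp (Nat.gcd_dvd_right j (r ^ (k + 1)))
        rw [hgl]
        refine pow_dvd_pow r (Nat.lt_succ_iff.mp (lt_of_le_of_ne hl fun h => hg1' ?_))
        rw [h] at hgl
        have hdj : r ^ (k + 1) ∣ j := hgl ▸ Nat.gcd_dvd_left j (r ^ (k + 1))
        exact orderOf_dvd_iff_pow_eq_one.mp (hx.symm ▸ hdj)
      obtain ⟨e, he⟩ := hgcd
      rw [hy, he, pow_mul]
      refine pow_mem ?_ e
      rw [Subgroup.mem_zpowers_iff]
      refine ⟨Nat.gcdA j (orderOf x), ?_⟩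
      rw [← hx, ← zpow_natCast x (Nat.gcd j (orderOf x)), Nat.gcd_eq_gcd_ab, _root_.zpow_add,
        _root_.zpow_mul, _root_.zpow_mul, zpow_natCast, zpow_natCast, pow_orderOf_eq_one, _root_.one_zpow,
        mul_one]
    obtain ⟨i', hi'⟩ := Subgroup.mem_zpowers_iff.mp hymem
    rw [← hi']
    exact (hcomm.zpow_left i').eq
  have hcard : r ^ (k + 1) ∣ Nat.card α := by
    haveI : Fintype α := Fintype.ofFinite α
    rw [Nat.card_congr (MulAction.selfEquivSigmaOrbitsQuotientStabilizer ↥(Subgroup.zpowers x) α),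
      Nat.card_sigma]
    refine Finset.dvd_sum fun ω _ => ?_
    rw [hfree, ← Subgroup.index_eq_card, Subgroup.index_bot, Nat.card_zpowers, hx]
  have hCV : C ≤ V := inf_le_left
  have hcα : Nat.card α + Nat.card C = Nat.card V := by
    have e : ↥V ≃ α ⊕ ↥C :=
      { toFun := fun v => if h : (v : G) ∈ C then Sum.inr ⟨v, h⟩ else Sum.inl ⟨v, v.2, h⟩
        invFun := fun s => s.elim (fun a => ⟨a.1, a.2.1⟩) (fun c => ⟨c.1, hCV c.2⟩)
        left_inv := fun v => by by_cases h : (v : G) ∈ C <;> simp [h]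
        right_inv := fun s => by
          rcases s with a | c
          · simp [a.2.2]
          · simp [c.2] }
    rw [Nat.card_congr e, Nat.card_sum]
  obtain ⟨N, hN⟩ := IsPGroup.iff_card.mp hV
  obtain ⟨c, hc, hcc⟩ := (Nat.dvd_prime_pow hp.out).mp (hN ▸ Subgroup.card_dvd_of_le hCV)
  have hrel : C.relIndex V = p ^ (N - c) := by
    have h1 : Nat.card C * C.relIndex V = Nat.card V := by
      rw [← Subgroup.relIndex_bot_left, Subgroup.relIndex_mul_relIndex _ _ _ bot_le hCV,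
        Subgroup.relIndex_bot_left]
    rw [hcc, hN] at h1
    refine Nat.eq_of_mul_eq_mul_left (pow_pos hp.out.pos c) ?_
    rw [h1, ← pow_add, Nat.add_sub_cancel' hc]
  have hlt : c < N := by
    refine lt_of_le_of_ne hc fun h => hne ?_
    have hCeq : C = V := Subgroup.eq_of_le_of_card_ge hCV (by rw [hcc, hN, h])
    intro v hv
    exact (((hmemC v).mp (hCeq.symm ▸ hv)).2).symm
  refine ⟨N - c, by omega, ?_, hrel⟩
  have hα : Nat.card α = p ^ c * (p ^ (N - c) - 1) := by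
    rw [Nat.mul_sub, mul_one, ← pow_add, Nat.add_sub_cancel' hc]
    omega
  rw [hα] at hcard
  exact ((((Nat.coprime_primes hr hp.out).mpr hrp).pow _ _)).dvd_of_dvd_mul_left hcard

/-- The index of the centraliser of an element of order `p` is at least the field size. -/
theorem pow_le_relIndex [Finite G] [Fintype F] {p : ℕ} [Fact p.Prime] {n : ℕ}
    (hF : Fintype.card F = p ^ n) {V H : Subgroup G} (hV : IsPGroup p V)
    (hHV : H ≤ Subgroup.normalizer (V : Set G)) (hf : H ⊓ Subgroup.centralizer (V : Set G) = ⊥)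
    (e : ↥H ≃* Matrix.SpecialLinearGroup (Fin 2) F) {a : G} (haH : a ∈ H) (ha1 : a ≠ 1)
    (hap : IsPGroup p ↥(Subgroup.zpowers a)) :
    p ^ n ≤ (V ⊓ Subgroup.centralizer ({a} : Set G)).relIndex V := by
  haveI := charP_of_card hF
  set Ca := V ⊓ Subgroup.centralizer ({a} : Set G) with hCa
  have hndvd : ∀ g ∈ H, g ≠ 1 → V ⊓ Subgroup.centralizer ({g} : Set G) ≠ V := by
    intro g hg hg1 h
    apply hg1
    have hgC : g ∈ Subgroup.centralizer (V : Set G) := fun v hv => by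
      have hv' : v ∈ V ⊓ Subgroup.centralizer ({g} : Set G) := h.symm ▸ hv
      exact (hv'.2 g rfl).symm
    exact Subgroup.mem_bot.mp (hf ▸ (⟨hg, hgC⟩ : g ∈ H ⊓ Subgroup.centralizer (V : Set G)))
  have hne1 : Ca.relIndex V ≠ 1 := fun h =>
    hndvd a haH ha1 (le_antisymm inf_le_left (Subgroup.relIndex_eq_one.mp h))
  obtain ⟨i, hi⟩ : ∃ i, Ca.relIndex V = p ^ i := by
    obtain ⟨i, -, h⟩ := (Nat.dvd_prime_pow (Fact.out : p.Prime)).mp
      ((IsPGroup.iff_card.mp hV).choose_spec ▸ Subgroup.relIndex_dvd_card Ca V)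
    exact ⟨i, h⟩
  rcases Nat.lt_or_ge n 2 with hn | hn
  · rw [hi]
    refine Nat.pow_le_pow_right (Fact.out : p.Prime).pos ?_
    rcases Nat.eq_zero_or_pos i with h0 | h0
    · exact absurd (by rw [hi, h0, pow_zero]) hne1
    · omega
  set a' : ↥H := ⟨a, haH⟩
  have hPp : IsPGroup p ↥(Subgroup.zpowers (e a')) := by
    rintro ⟨g, hg⟩
    obtain ⟨j, rfl⟩ := Subgroup.mem_zpowers_iff.mp hg
    obtain ⟨l, hl⟩ := hap ⟨a, Subgroup.mem_zpowers a⟩
    refine ⟨l, Subtype.ext ?_⟩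
    have hl' : a' ^ p ^ l = 1 := Subtype.ext (by simpa using congrArg Subtype.val hl)
    show (e a' ^ j) ^ p ^ l = 1
    rw [← zpow_natCast, ← _root_.zpow_mul, mul_comm, _root_.zpow_mul, zpow_natCast, ← map_pow, hl',
      map_one, _root_.one_zpow]
  obtain ⟨v, hv, hfix⟩ := QdOver.exists_fixed_vector hPp
  obtain ⟨g, hg⟩ := exists_sl2_column hv
  have hU : IsU (g⁻¹ * e a' * g) := by
    rw [isU_iff, Matrix.SpecialLinearGroup.coe_mul, Matrix.SpecialLinearGroup.coe_mul,
      ← Matrix.mulVec_mulVec, ← Matrix.mulVec_mulVec, hg, hfix _ (Subgroup.mem_zpowers _), ← hg,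
      Matrix.mulVec_mulVec, ← Matrix.SpecialLinearGroup.coe_mul, inv_mul_cancel,
      Matrix.SpecialLinearGroup.coe_one, Matrix.one_mulVec]
  set σ := (g⁻¹ * e a' * g).1 0 1
  have hup : e a' = g * QdOver.up σ * g⁻¹ := by rw [← hU.eq_up]; group
  have hσ : σ ≠ 0 := fun h => ha1 (by
    have h1 : e a' = 1 := by
      rw [hup, h, show QdOver.up (0 : F) = 1 from Subtype.ext (by
        show !![1, (0 : F); 0, 1] = 1; simp [Matrix.one_fin_two]), mul_one, mul_inv_cancel]
    exact congrArg Subtype.val ((map_eq_one_iff _ e.injective).mp h1))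
  obtain ⟨w, r, k, hr, -, hrp, hord, hd⟩ := exists_conj_product hF hn hσ
  set h₀ : ↥H := e.symm (g * w * g⁻¹)
  set b : ↥H := h₀ * a' * h₀⁻¹
  set z : ↥H := (a' * b) ^ 2
  have hz : orderOf z = r ^ (k + 1) := by
    rw [← hord, ← orderOf_injective e.toMonoidHom e.injective,
      ← orderOf_injective (MulAut.conj g⁻¹).toMonoidHom (MulAut.conj g⁻¹).injective]
    congr 1
    show g⁻¹ * e ((a' * (h₀ * a' * h₀⁻¹)) ^ 2) * g⁻¹⁻¹ = _
    rw [map_pow, map_mul, map_mul, map_mul, map_inv, e.apply_symm_apply, hup, inv_inv, pow_two,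
      pow_two]
    group
  have hy0 : (z : G) ^ r ^ k ∉ Subgroup.centralizer (V : Set G) := by
    intro hmem
    have h1 : z ^ r ^ k = 1 := Subtype.ext (Subgroup.mem_bot.mp (hf ▸ (⟨(z ^ r ^ k).2, hmem⟩ :
      (z : G) ^ r ^ k ∈ H ⊓ Subgroup.centralizer (V : Set G))))
    have h2 := orderOf_dvd_of_pow_eq_one h1
    rw [hz, Nat.pow_dvd_pow_iff_le_right hr.one_lt] at h2
    omega
  obtain ⟨d, hd0, hdvd, hrel⟩ := dvd_sub_one hV (hHV z.2) hr hrp
    (by rw [← hz]; exact Subgroup.orderOf_coe z) hy0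
  have h2n : 2 * n ≤ d := hd d hd0 hdvd
  set Cb := V ⊓ Subgroup.centralizer ({(b : G)} : Set G)
  set Cy := V ⊓ Subgroup.centralizer ({(z : G) ^ r ^ k} : Set G)
  have hle : Ca ⊓ Cb ≤ Cy := by
    rintro v ⟨⟨hv, hva⟩, -, hvb⟩
    refine ⟨hv, fun u hu => ?_⟩
    rw [Set.mem_singleton_iff.mp hu]
    have h1 : Commute a v := hva a rfl
    have h2 : Commute (b : G) v := hvb _ rfl
    exact ((((h1.mul_left h2).pow_left 2)).pow_left (r ^ k)).eq
  have hbrel : Cb.relIndex V = Ca.relIndex V := by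
    have hcard : Nat.card ↥Cb = Nat.card ↥Ca := by
      have hmap : Cb = Ca.map (MulAut.conj (h₀ : G)).toMonoidHom := by
        have hb : (b : G) = h₀ * a * (h₀ : G)⁻¹ := rfl
        ext u
        constructor
        · rintro ⟨hu, huc⟩
          refine ⟨(h₀ : G)⁻¹ * u * h₀, ⟨?_, ?_⟩, by simp [mul_assoc]⟩
          · exact (Subgroup.mem_normalizer_iff.mp (hHV h₀.2) _).mpr (by simpa [mul_assoc] using hu)
          · intro s hs
            rw [Set.mem_singleton_iff.mp hs]
            have h3 := huc _ rfl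
            rw [hb] at h3
            calc a * ((h₀ : G)⁻¹ * u * h₀)
                = (h₀ : G)⁻¹ * ((h₀ * a * (h₀ : G)⁻¹) * u) * h₀ := by group
              _ = (h₀ : G)⁻¹ * (u * (h₀ * a * (h₀ : G)⁻¹)) * h₀ := by rw [h3]
              _ = _ := by group
        · rintro ⟨s, ⟨hs, hsc⟩, rfl⟩
          refine ⟨(Subgroup.mem_normalizer_iff.mp (hHV h₀.2) _).mp hs, fun t ht => ?_⟩
          rw [Set.mem_singleton_iff.mp ht, hb]
          show h₀ * a * (h₀ : G)⁻¹ * (h₀ * s * (h₀ : G)⁻¹) = h₀ * s * (h₀ : G)⁻¹ * (h₀ * a * (h₀ : G)⁻¹)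
          calc h₀ * a * (h₀ : G)⁻¹ * (h₀ * s * (h₀ : G)⁻¹) = h₀ * (a * s) * (h₀ : G)⁻¹ := by group
            _ = h₀ * (s * a) * (h₀ : G)⁻¹ := by rw [hsc a rfl]
            _ = _ := by group
      rw [hmap]
      exact (Nat.card_congr (Ca.equivMapOfInjective _ (MulAut.conj (h₀ : G)).injective).toEquiv).symm
    have e1 : ∀ {C : Subgroup G}, C ≤ V → Nat.card ↥C * C.relIndex V = Nat.card ↥V := fun hC => by
      rw [← Subgroup.relIndex_bot_left, Subgroup.relIndex_mul_relIndex _ _ _ bot_le hC,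
        Subgroup.relIndex_bot_left]
    have h1 := e1 (C := Cb) inf_le_left
    rw [hcard, ← e1 (C := Ca) inf_le_left] at h1
    exact Nat.eq_of_mul_eq_mul_left Nat.card_pos h1
  have hbound : p ^ d ≤ p ^ i * p ^ i := by
    rw [← hrel]
    calc Cy.relIndex V ≤ (Ca ⊓ Cb).relIndex V :=
          Subgroup.relIndex_le_of_le_left hle fun h => by
            have := Subgroup.relIndex_dvd_card (Ca ⊓ Cb) V
            rw [h, zero_dvd_iff] at this
            exact Nat.card_pos.ne' this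
      _ ≤ Ca.relIndex V * Cb.relIndex V := Subgroup.relIndex_inf_le
      _ = _ := by rw [hbrel, hi]
  rw [← pow_add] at hbound
  have := (Nat.pow_le_pow_iff_right (Fact.out : p.Prime).one_lt).mp hbound
  rw [hi]
  exact Nat.pow_le_pow_right (Fact.out : p.Prime).pos (by omega)

end Cfsg.Agent.NatSL2
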