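/-
Displacement bounds for a group `H` acting faithfully on a `p`-group with a quotient by a `p'`-group
containing a big element which is a product of few conjugates.
-/
import Cfsg.Agent.Lib.NatSL2.Displacement
import Cfsg.Agent.Lib.Cores.Basic

set_option autoImplicit false

namespace Cfsg.Agent.NatSL2

open Matrix

variable {G : Type*} [Group G]

/-- A big element of a quotient of `H` forces a big index for every subgroup centralised by a lift. -/
theorem bound_of_lift [Finite G] {p : ℕ} [Fact p.Prime] {V H : Subgroup G} (hV : IsPGroup p V)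
    (hHV : H ≤ Subgroup.normalizer (V : Set G)) (hf : H ⊓ Subgroup.centralizer (V : Set G) = ⊥)
    {X : Type*} [Group X] (π : ↥H →* X) (z : ↥H) {r k N : ℕ} (hr : r.Prime) (hrp : r ≠ p)
    (hz : orderOf (π z) = r ^ (k + 1)) (hd : ∀ d : ℕ, 0 < d → r ^ (k + 1) ∣ p ^ d - 1 → N ≤ d)
    {C : Subgroup G} (hC : ∀ v ∈ C, (z : G) * v = v * (z : G)) :
    p ^ N ≤ C.relIndex V ∧ p ^ N ≤ Nat.card V := by
  obtain ⟨j, hj⟩ : r ^ (k + 1) ∣ orderOf z := hz ▸ orderOf_map_dvd π z
  have hpos : 0 < orderOf z := orderOf_pos z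
  have hj0 : j ≠ 0 := by rintro rfl; rw [mul_zero] at hj; omega
  set z' : ↥H := z ^ j
  have hz' : orderOf z' = r ^ (k + 1) := by
    rw [orderOf_pow' z hj0, hj, Nat.gcd_eq_right (Dvd.intro_left _ rfl),
      Nat.mul_div_cancel _ (Nat.pos_of_ne_zero hj0)]
  have hy0 : (z' : G) ^ r ^ k ∉ Subgroup.centralizer (V : Set G) := by
    intro hmem
    have h1 : z' ^ r ^ k = 1 := Subtype.ext (Subgroup.mem_bot.mp (hf ▸ (⟨(z' ^ r ^ k).2, hmem⟩ :
      (z' : G) ^ r ^ k ∈ H ⊓ Subgroup.centralizer (V : Set G))))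
    have h2 := orderOf_dvd_of_pow_eq_one h1
    rw [hz', Nat.pow_dvd_pow_iff_le_right hr.one_lt] at h2
    omega
  obtain ⟨d, hd0, hdvd, hrel⟩ := dvd_sub_one hV (hHV z'.2) hr hrp
    (by rw [← hz']; exact Subgroup.orderOf_coe z') hy0
  have hN : p ^ N ≤ p ^ d := Nat.pow_le_pow_right (Fact.out : p.Prime).pos (hd d hd0 hdvd)
  rw [← hrel] at hN
  set Cy := V ⊓ Subgroup.centralizer ({(z' : G) ^ r ^ k} : Set G)
  have hle : C ⊓ V ≤ Cy := fun v hv => ⟨hv.2, fun u hu => by
    rw [Set.mem_singleton_iff.mp hu]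
    have h1 : Commute (z : G) v := hC v hv.1
    have h2 : (z' : G) = (z : G) ^ j := Subgroup.coe_pow H z j
    rw [h2]
    exact ((h1.pow_left j).pow_left (r ^ k)).eq⟩
  refine ⟨hN.trans ?_, hN.trans (Nat.le_of_dvd Nat.card_pos (Subgroup.relIndex_dvd_card _ _))⟩
  rw [← Subgroup.inf_relIndex_right C V]
  refine Subgroup.relIndex_le_of_le_left hle fun h => ?_
  have := Subgroup.relIndex_dvd_card (C ⊓ V) V
  rw [h, zero_dvd_iff] at this
  exact Nat.card_pos.ne' this

/-- Conjugate elements have centralisers of equal index. -/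
theorem relIndex_conj [Finite G] {V : Subgroup G} {h a : G}
    (hh : h ∈ Subgroup.normalizer (V : Set G)) :
    (V ⊓ Subgroup.centralizer ({h * a * h⁻¹} : Set G)).relIndex V =
      (V ⊓ Subgroup.centralizer ({a} : Set G)).relIndex V := by
  set Ca := V ⊓ Subgroup.centralizer ({a} : Set G)
  set Cb := V ⊓ Subgroup.centralizer ({h * a * h⁻¹} : Set G)
  have hmap : Cb = Ca.map (MulAut.conj h).toMonoidHom := by
    ext u
    constructor
    · rintro ⟨hu, huc⟩
      refine ⟨h⁻¹ * u * h, ⟨?_, ?_⟩, by simp [mul_assoc]⟩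
      · exact (Subgroup.mem_normalizer_iff.mp hh _).mpr (by simpa [mul_assoc] using hu)
      · intro s hs
        rw [Set.mem_singleton_iff.mp hs]
        have h3 := huc _ rfl
        calc a * (h⁻¹ * u * h) = h⁻¹ * ((h * a * h⁻¹) * u) * h := by group
          _ = h⁻¹ * (u * (h * a * h⁻¹)) * h := by rw [h3]
          _ = _ := by group
    · rintro ⟨s, ⟨hs, hsc⟩, rfl⟩
      refine ⟨(Subgroup.mem_normalizer_iff.mp hh _).mp hs, fun t ht => ?_⟩
      rw [Set.mem_singleton_iff.mp ht]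
      show h * a * h⁻¹ * (h * s * h⁻¹) = h * s * h⁻¹ * (h * a * h⁻¹)
      calc h * a * h⁻¹ * (h * s * h⁻¹) = h * (a * s) * h⁻¹ := by group
        _ = h * (s * a) * h⁻¹ := by rw [hsc a rfl]
        _ = _ := by group
  have e1 : ∀ {C : Subgroup G}, C ≤ V → Nat.card ↥C * C.relIndex V = Nat.card ↥V := fun hC => by
    rw [← Subgroup.relIndex_bot_left, Subgroup.relIndex_mul_relIndex _ _ _ bot_le hC,
      Subgroup.relIndex_bot_left]
  have h1 := e1 (C := Cb) inf_le_left
  rw [← e1 (C := Ca) inf_le_left,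
    show Nat.card ↥Cb = Nat.card ↥Ca from by
      rw [hmap]; exact (Nat.card_congr (Ca.equivMapOfInjective _ (MulAut.conj h).injective).toEquiv).symm] at h1
  exact Nat.eq_of_mul_eq_mul_left Nat.card_pos h1

/-- The same for a product of conjugates of one element. -/
theorem pow_le_of_conjugates [Finite G] {p : ℕ} [Fact p.Prime] {V H : Subgroup G} (hV : IsPGroup p V)
    (hHV : H ≤ Subgroup.normalizer (V : Set G)) (hf : H ⊓ Subgroup.centralizer (V : Set G) = ⊥)
    {X : Type*} [Group X] (π : ↥H →* X) (s : ↥H) {l : ℕ} (h : Fin l → ↥H) (j : ℕ) {r k N : ℕ}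
    (hr : r.Prime) (hrp : r ≠ p)
    (hz : orderOf (π ((List.ofFn fun i => h i * s * (h i)⁻¹).prod ^ j)) = r ^ (k + 1))
    (hd : ∀ d : ℕ, 0 < d → r ^ (k + 1) ∣ p ^ d - 1 → N ≤ d) :
    p ^ N ≤ ((V ⊓ Subgroup.centralizer ({(s : G)} : Set G)).relIndex V) ^ l ∧
      p ^ N ≤ Nat.card V := by
  set c : Fin l → Subgroup G := fun i =>
    V ⊓ Subgroup.centralizer ({((h i * s * (h i)⁻¹ : ↥H) : G)} : Set G)
  set z := (List.ofFn fun i => h i * s * (h i)⁻¹).prod ^ j
  have hC : ∀ v ∈ ⨅ i, c i, (z : G) * v = v * (z : G) := by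
    intro v hv
    have h1 : ∀ g ∈ (List.ofFn fun i => h i * s * (h i)⁻¹), (g : G) * v = v * (g : G) := by
      intro g hg
      obtain ⟨i, rfl⟩ := List.mem_ofFn.mp hg
      exact ((Subgroup.mem_iInf.mp hv) i).2 _ rfl
    have h2 : ∀ L : List ↥H, (∀ g ∈ L, (g : G) * v = v * (g : G)) →
        Commute ((L.prod : ↥H) : G) v := by
      intro L
      induction L with
      | nil => intro _; simp [Commute.one_left]
      | cons a L ih =>
        intro hL
        rw [List.prod_cons, Subgroup.coe_mul]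
        exact Commute.mul_left (hL a (by simp)) (ih fun g hg => hL g (by simp [hg]))
    rw [show (z : G) = _ from Subgroup.coe_pow H _ j]
    exact ((h2 _ h1).pow_left j).eq
  obtain ⟨h1, h2⟩ := bound_of_lift hV hHV hf π z hr hrp hz hd hC
  refine ⟨h1.trans ?_, h2⟩
  calc (⨅ i, c i).relIndex V ≤ ∏ i, (c i).relIndex V := Subgroup.relIndex_iInf_le _
    _ = _ := by
      rw [Finset.prod_congr rfl fun i _ => ?_, Finset.prod_const, Finset.card_univ, Fintype.card_fin]
      exact relIndex_conj (hHV (h i).2)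

section PSL

variable {F : Type*} [Field F] [Fintype F]

/-- A `p`-element is conjugate to an upper unitriangular one. -/
theorem exists_conj_up {p : ℕ} [Fact p.Prime] [CharP F p]
    {M : Matrix.SpecialLinearGroup (Fin 2) F} (hM : IsPGroup p ↥(Subgroup.zpowers M)) :
    ∃ (g : Matrix.SpecialLinearGroup (Fin 2) F) (σ : F), M = g * QdOver.up σ * g⁻¹ := by
  obtain ⟨v, hv, hfix⟩ := QdOver.exists_fixed_vector hM
  obtain ⟨g, hg⟩ := exists_sl2_column hv
  have hU : IsU (g⁻¹ * M * g) := by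
    rw [isU_iff, Matrix.SpecialLinearGroup.coe_mul, Matrix.SpecialLinearGroup.coe_mul,
      ← Matrix.mulVec_mulVec, ← Matrix.mulVec_mulVec, hg, hfix _ (Subgroup.mem_zpowers _), ← hg,
      Matrix.mulVec_mulVec, ← Matrix.SpecialLinearGroup.coe_mul, inv_mul_cancel,
      Matrix.SpecialLinearGroup.coe_one, Matrix.one_mulVec]
  exact ⟨g, (g⁻¹ * M * g).1 0 1, by rw [← hU.eq_up]; group⟩

/-- A central element of `SL₂` squares to `1`. -/
theorem center_sq {c : Matrix.SpecialLinearGroup (Fin 2) F}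
    (hc : c ∈ Subgroup.center (Matrix.SpecialLinearGroup (Fin 2) F)) : c ^ 2 = 1 := by
  obtain ⟨l, hl, hlc⟩ := Matrix.SpecialLinearGroup.mem_center_iff.mp hc
  refine Subtype.ext ?_
  rw [Matrix.SpecialLinearGroup.coe_pow, Matrix.SpecialLinearGroup.coe_one, ← hlc]
  rw [Fintype.card_fin] at hl
  simp [Matrix.diagonal_pow, funext_iff, hl]

/-- Displacement bounds for an element whose image in `PSL₂(p^n)` is nontrivial. -/
theorem psl_bounds_of_hom [Finite G] {p : ℕ} [Fact p.Prime] {n : ℕ} (hF : Fintype.card F = p ^ n)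
    {V H : Subgroup G} (hV : IsPGroup p V) (hHV : H ≤ Subgroup.normalizer (V : Set G))
    (hf : H ⊓ Subgroup.centralizer (V : Set G) = ⊥)
    (π : ↥H →* Matrix.ProjectiveSpecialLinearGroup (Fin 2) F) (hπ : Function.Surjective π)
    (hn : 2 ≤ n) {s : G} (hs : s ∈ H) (hsp : IsPGroup p ↥(Subgroup.zpowers s))
    (hπs : π ⟨s, hs⟩ ≠ 1) :
    p ^ n ≤ (V ⊓ Subgroup.centralizer ({s} : Set G)).relIndex V ∧ p ^ (2 * n) ≤ Nat.card V := by
  have hp : p.Prime := Fact.out
  haveI := charP_of_card hF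
  set s' : ↥H := ⟨s, hs⟩
  obtain ⟨l, hl⟩ := hsp ⟨s, Subgroup.mem_zpowers s⟩
  have hl' : s' ^ p ^ l = 1 := Subtype.ext (by simpa using congrArg Subtype.val hl)
  let mk : Matrix.SpecialLinearGroup (Fin 2) F →* Matrix.ProjectiveSpecialLinearGroup (Fin 2) F :=
    QuotientGroup.mk' _
  obtain ⟨M₀, hM₀⟩ := QuotientGroup.mk'_surjective
    (Subgroup.center (Matrix.SpecialLinearGroup (Fin 2) F)) (π s')
  set M := M₀ ^ (p ^ l + 1)
  have hM0c : M₀ ^ p ^ l ∈ Subgroup.center (Matrix.SpecialLinearGroup (Fin 2) F) := by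
    rw [← QuotientGroup.eq_one_iff]
    show mk (M₀ ^ p ^ l) = 1
    rw [map_pow, show mk M₀ = π s' from hM₀, ← map_pow, hl', map_one]
  have hMπ : mk M = π s' := by
    rw [map_pow, show mk M₀ = π s' from hM₀, pow_succ, ← map_pow, hl', map_one, one_mul]
  have hMp : M ^ p ^ l = 1 := by
    rw [← pow_mul, mul_comm, pow_mul]
    rcases hp.eq_two_or_odd' with rfl | hodd
    · have hc : M₀ ^ 2 ^ l = 1 := by
        obtain ⟨a, ha, hac⟩ := Matrix.SpecialLinearGroup.mem_center_iff.mp hM0c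
        refine Subtype.ext ?_
        rw [← hac, Matrix.SpecialLinearGroup.coe_one]
        rw [Fintype.card_fin] at ha
        have h2 : (2 : F) = 0 := by exact_mod_cast CharP.cast_eq_zero F 2
        have ha1 : a = 1 := by
          have : (a + 1) * (a + 1) = 0 := by linear_combination ha + (a + 1) * h2
          rcases mul_eq_zero.mp this with h | h <;> linear_combination h - h2
        rw [ha1, map_one]
      rw [hc, one_pow]
    · obtain ⟨w, hw⟩ := hodd.pow (n := l)
      rw [show p ^ l + 1 = 2 * (w + 1) by omega, pow_mul, center_sq hM0c, one_pow]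
  obtain ⟨g, σ, hgσ⟩ := exists_conj_up (p := p) (M := M) (by
    rintro ⟨x, hx⟩
    obtain ⟨i, rfl⟩ := Subgroup.mem_zpowers_iff.mp hx
    refine ⟨l, Subtype.ext ?_⟩
    show (M ^ i) ^ p ^ l = 1
    rw [← zpow_natCast, ← _root_.zpow_mul, mul_comm, _root_.zpow_mul, zpow_natCast, hMp,
      _root_.one_zpow])
  have hσ : σ ≠ 0 := fun h => hπs (by
    rw [← hMπ, hgσ, h, show QdOver.up (0 : F) = 1 from Subtype.ext (by
      show !![1, (0 : F); 0, 1] = 1; simp [Matrix.one_fin_two]), mul_one, mul_inv_cancel, map_one])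
  obtain ⟨w, r, k, hr, hr2, hrp, hord, hd⟩ := exists_conj_product hF hn hσ
  obtain ⟨h₀, hh₀⟩ := hπ (mk (g * w * g⁻¹))
  set M' := QdOver.up σ * (w * QdOver.up σ * w⁻¹)
  have hodd : Odd (r ^ (k + 1)) := (hr.odd_of_ne_two hr2).pow
  have hz : orderOf (π ((List.ofFn fun i : Fin 2 =>
      (![1, h₀] i) * s' * (![1, h₀] i)⁻¹).prod ^ 2)) = r ^ (k + 1) := by
    have hprod : π ((List.ofFn fun i : Fin 2 => (![1, h₀] i) * s' * (![1, h₀] i)⁻¹).prod) =
        mk (g * M' * g⁻¹) := by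
      simp only [List.ofFn_succ, List.ofFn_zero, List.prod_cons, List.prod_nil, mul_one,
        Matrix.cons_val_zero, Matrix.cons_val_succ, inv_one, one_mul]
      rw [map_mul, map_mul, map_mul, map_inv, hh₀, ← hMπ, hgσ, ← map_inv, ← map_mul, ← map_mul,
        ← map_mul]
      congr 1
      show _ = g * (QdOver.up σ * (w * QdOver.up σ * w⁻¹)) * g⁻¹
      group
    rw [map_pow, hprod, ← map_pow, conj_pow]
    set y := g * M' ^ 2 * g⁻¹ with hy
    have hy' : orderOf y = r ^ (k + 1) := by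
      rw [← hord]
      exact orderOf_injective (MulAut.conj g).toMonoidHom (MulAut.conj g).injective (M' ^ 2)
    refine Nat.dvd_antisymm (hy' ▸ orderOf_map_dvd mk y) ?_
    have h1 : y ^ orderOf (mk y) ∈ Subgroup.center (Matrix.SpecialLinearGroup (Fin 2) F) := by
      rw [← QuotientGroup.eq_one_iff]
      show mk (y ^ orderOf (mk y)) = 1
      rw [map_pow, pow_orderOf_eq_one]
    have h2 : y ^ (orderOf (mk y) * 2) = 1 := by rw [pow_mul, center_sq h1]
    have h3 := orderOf_dvd_of_pow_eq_one h2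
    rw [hy'] at h3
    exact ((Nat.coprime_two_right.mpr hodd)).dvd_of_dvd_mul_right h3
  obtain ⟨h1, h2⟩ := pow_le_of_conjugates hV hHV hf π s' ![1, h₀] 2 hr hrp hz hd
  refine ⟨?_, h2⟩
  rw [mul_comm, pow_mul] at h1
  exact le_of_pow_le_pow_left₀ two_ne_zero (Nat.zero_le _) h1

/-- Displacement bounds when `H / O_{p'}(H) ≅ PSL₂(p^n)`. -/
theorem psl_bounds [Finite G] {p : ℕ} [Fact p.Prime] {n : ℕ} (hF : Fintype.card F = p ^ n)
    {V H : Subgroup G} (hV : IsPGroup p V) (hHV : H ≤ Subgroup.normalizer (V : Set G))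
    (hf : H ⊓ Subgroup.centralizer (V : Set G) = ⊥)
    (e : ↥H ⧸ Cfsg.pPrimeCore p ↥H ≃* Matrix.ProjectiveSpecialLinearGroup (Fin 2) F)
    (hn : 2 ≤ n) {s : G} (hs : s ∈ H) (hs1 : s ≠ 1) (hsp : IsPGroup p ↥(Subgroup.zpowers s)) :
    p ^ n ≤ (V ⊓ Subgroup.centralizer ({s} : Set G)).relIndex V ∧ p ^ (2 * n) ≤ Nat.card V := by
  refine psl_bounds_of_hom hF hV hHV hf (e.toMonoidHom.comp (QuotientGroup.mk' _))
    (e.surjective.comp (QuotientGroup.mk'_surjective _)) hn hs hsp fun h1 => ?_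
  set s' : ↥H := ⟨s, hs⟩
  obtain ⟨l, hl⟩ := hsp ⟨s, Subgroup.mem_zpowers s⟩
  have hl' : s' ^ p ^ l = 1 := Subtype.ext (by simpa using congrArg Subtype.val hl)
  have hmem : s' ∈ Cfsg.pPrimeCore p ↥H :=
    (QuotientGroup.eq_one_iff s').mp ((map_eq_one_iff _ e.injective).mp h1)
  refine hs1 (congrArg Subtype.val (orderOf_eq_one_iff.mp (Nat.eq_one_of_dvd_coprimes
    ((Cores.coprime_card_pPrimeCore (G := ↥H) p).pow_right l)
    (Subgroup.orderOf_dvd_natCard _ hmem) (orderOf_dvd_of_pow_eq_one hl')) : s' = 1))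

/-- A Sylow subgroup with a subgroup of order `p²` forces `n ≥ 2`. -/
theorem two_le_of_card [Finite G] {p : ℕ} [Fact p.Prime] {n : ℕ} (hF : Fintype.card F = p ^ n)
    {H A : Subgroup G}
    (e : ↥H ⧸ Cfsg.pPrimeCore p ↥H ≃* Matrix.ProjectiveSpecialLinearGroup (Fin 2) F)
    (hA : A ≤ H) (hAp : Nat.card A = p ^ 2) : 2 ≤ n := by
  classical
  have hp : p.Prime := Fact.out
  by_contra hn
  have h1 : p ^ 2 ∣ Nat.card (↥H ⧸ Cfsg.pPrimeCore p ↥H) := by
    have h2 : p ^ 2 ∣ (Cfsg.pPrimeCore p ↥H).index * Nat.card ↥(Cfsg.pPrimeCore p ↥H) := by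
      rw [mul_comm, Subgroup.card_mul_index, ← hAp]
      exact Subgroup.card_dvd_of_le hA
    rw [← Subgroup.index_eq_card]
    exact (((Cores.coprime_card_pPrimeCore (G := ↥H) p).pow_right 2).symm).dvd_of_dvd_mul_right h2
  rw [Nat.card_congr e.toEquiv] at h1
  have h3 := h1.trans (Subgroup.card_quotient_dvd_card
    (Subgroup.center (Matrix.SpecialLinearGroup (Fin 2) F)))
  rw [GLOrder.card_SL_two, Nat.card_eq_fintype_card, hF] at h3
  have hn1 : n = 1 := by
    rcases Nat.eq_zero_or_pos n with h0 | h0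
    · exfalso
      have := Fintype.one_lt_card (α := F)
      rw [hF, h0] at this; simp at this
    · omega
  rw [hn1, pow_one, pow_two, Nat.mul_dvd_mul_iff_left hp.pos] at h3
  have h4 : p ∣ p ^ 2 := dvd_pow_self p two_ne_zero
  have h5 := Nat.dvd_sub h4 h3
  have h6 : 1 ≤ p ^ 2 := Nat.one_le_pow _ _ hp.pos
  rw [← pow_two, Nat.sub_sub_self h6] at h5
  exact hp.one_lt.ne' (Nat.dvd_one.mp h5)

end PSL

end Cfsg.Agent.NatSL2
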