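/-
Displacement bounds for `H` faithful on a `2`-group with `H / O(H) ≅ Sz(q)`.
-/
import Cfsg.Agent.Lib.NatSL2.Section
import Cfsg.Agent.Lib.Suzuki.Partition
import Cfsg.Agent.Lib.Suzuki.LieModel
import Cfsg.Agent.Lib.Suzuki.Solubilizer

set_option autoImplicit false
set_option linter.style.haveILetI false

namespace Cfsg.Agent.NatSL2

variable {F : Type*} [Field F] [Fintype F] {m : ℕ}

/-- An element of the exceptional torus of big prime order is a product of two involutions. -/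
theorem exists_sz_big (hm : 1 ≤ m) (hF : Fintype.card F = 2 ^ (2 * m + 1)) :
    ∃ (r : ℕ) (a b : Cfsg.Sz F m), r.Prime ∧ r ≠ 2 ∧ orderOf (a * b) = r ∧ orderOf a = 2 ∧
      orderOf b = 2 ∧ ∀ d : ℕ, 0 < d → r ∣ 2 ^ d - 1 → 4 * (2 * m + 1) ≤ d := by
  haveI : Fact (Nat.Prime 2) := ⟨Nat.prime_two⟩
  obtain ⟨r, hr, hrdvd, hrmin⟩ := Zsigmondy.exists_primitive (a := 2) (n := 4 * (2 * m + 1))
    one_lt_two (by omega) (fun h => by omega) (fun h => by omega)
  haveI := Fact.mk hr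
  have hr2 : r ≠ 2 := by
    rintro rfl
    have h1 : 2 ∣ 2 ^ (4 * (2 * m + 1)) := dvd_pow_self 2 (by omega)
    have h2 := Nat.dvd_sub h1 hrdvd
    rw [Nat.sub_sub_self (Nat.one_le_two_pow)] at h2
    norm_num at h2
  set q := 2 ^ (2 * m + 1) with hq
  have hfac : 2 ^ (4 * (2 * m + 1)) - 1 =
      (q ^ 2 + 1) * (2 ^ (2 * (2 * m + 1)) - 1) := by
    rw [hq, ← pow_mul, show 4 * (2 * m + 1) = 2 * (2 * (2 * m + 1)) by ring,
      show (2 * m + 1) * 2 = 2 * (2 * m + 1) by ring, mul_comm 2 (2 * (2 * m + 1)), pow_mul,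
      ← Nat.sq_sub_sq, one_pow]
  have hrq : r ∣ q ^ 2 + 1 := by
    rw [hfac] at hrdvd
    exact (hr.dvd_mul.mp hrdvd).resolve_right (hrmin (2 * (2 * m + 1)) (by omega) (by omega))
  have hprod : Suzuki.torusA m * Suzuki.torusB m = q ^ 2 + 1 := Suzuki.torusA_mul_torusB m
  obtain ⟨k, hk, hrk⟩ : ∃ k ∈ ({2 ^ (2 * m + 1) + 2 ^ (m + 1) + 1,
      2 ^ (2 * m + 1) - 2 ^ (m + 1) + 1} : Set ℕ), r ∣ k := by
    rcases hr.dvd_mul.mp (hprod ▸ hrq) with h | h
    · exact ⟨_, Or.inl rfl, h⟩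
    · exact ⟨_, Or.inr rfl, h⟩
  obtain ⟨U, hUc, hUk, hUcen, hUN⟩ := Suzuki.exceptional_subgroups hm hF k hk
  have hkodd : ¬ 2 ∣ k := by
    have h2 : 2 ∣ 2 ^ (2 * m + 1) := dvd_pow_self 2 (by omega)
    have h3 : 2 ∣ 2 ^ (m + 1) := dvd_pow_self 2 (by omega)
    have := Suzuki.sigma_le m
    rcases hk with rfl | rfl
    · omega
    · omega
  obtain ⟨⟨t, htN⟩, ht⟩ := exists_prime_orderOf_dvd_card' (G := ↥(Subgroup.normalizer (U : Set (Cfsg.Sz F m))))
    2 (hUN ▸ Dvd.dvd.mul_right (by norm_num) k)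
  rw [← Subgroup.orderOf_coe] at ht
  change orderOf t = 2 at ht
  obtain ⟨⟨u, huU⟩, hu⟩ := exists_prime_orderOf_dvd_card' (G := ↥U) r (hUk ▸ hrk)
  rw [← Subgroup.orderOf_coe] at hu
  change orderOf u = r at hu
  have htU : t ∉ U := fun h => hkodd (by
    rw [← hUk, ← ht]; exact Subgroup.orderOf_dvd_natCard U h)
  have hu1 : u ≠ 1 := fun h => by rw [h, orderOf_one] at hu; exact hr.one_lt.ne hu
  have htt : t * t = 1 := by rw [← pow_two, ← ht, pow_orderOf_eq_one]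
  have htinv : t⁻¹ = t := inv_eq_of_mul_eq_one_right htt
  have hconjU : t * u * t ∈ U := by
    have := (Subgroup.mem_normalizer_iff.mp htN u).mp huU
    rwa [htinv] at this
  haveI := hUc
  have hcomm : ∀ x ∈ U, ∀ y ∈ U, x * y = y * x := fun x hx y hy =>
    congrArg Subtype.val ((IsCyclic.commGroup (α := ↥U)).mul_comm ⟨x, hx⟩ ⟨y, hy⟩)
  have hfix : u * (t * u * t) = 1 := by
    by_contra hne
    refine htU ?_
    rw [← hUcen _ (U.mul_mem huU hconjU) hne, Subgroup.mem_centralizer_singleton_iff]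
    have h1 : t * (u * (t * u * t)) = (t * u * t) * u * t := by
      calc t * (u * (t * u * t)) = (t * u * t) * u * t := by group
        _ = _ := rfl
    rw [h1, hcomm _ hconjU _ huU]
  have hb2 : (t * u) * (t * u) = 1 := by
    calc (t * u) * (t * u) = t * (u * (t * u * t)) * t⁻¹ := by group
      _ = 1 := by rw [hfix, mul_one, mul_inv_cancel]
  refine ⟨r, t, t * u, hr, hr2, by rw [← mul_assoc, htt, one_mul, hu], ht,
    orderOf_eq_prime (by rw [pow_two, hb2]) fun h => ?_, fun d hd hdvd => ?_⟩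
  · exact htU (by
      have : t = u⁻¹ := eq_inv_of_mul_eq_one_left h
      rw [this]; exact U.inv_mem huU)
  · by_contra hlt
    exact hrmin d hd (by omega) hdvd

variable {G : Type*} [Group G] [Finite G]

/-- Displacement bounds when `H / O(H) ≅ Sz(q)`. -/
theorem sz_bounds (hm : 1 ≤ m) (hF : Fintype.card F = 2 ^ (2 * m + 1))
    {V H : Subgroup G} (hV : IsPGroup 2 V) (hHV : H ≤ Subgroup.normalizer (V : Set G))
    (hf : H ⊓ Subgroup.centralizer (V : Set G) = ⊥)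
    (e : ↥H ⧸ Cfsg.pPrimeCore 2 ↥H ≃* ↥(Cfsg.Lie.Sz F (2 ^ (m + 1))))
    {s : G} (hs : s ∈ H) (hs1 : s ≠ 1) (hsp : IsPGroup 2 ↥(Subgroup.zpowers s)) :
    (2 ^ (2 * m + 1)) ^ 2 ≤ (V ⊓ Subgroup.centralizer ({s} : Set G)).relIndex V ∧
      (2 ^ (2 * m + 1)) ^ 4 ≤ Nat.card V := by
  haveI : Fact (Nat.Prime 2) := ⟨Nat.prime_two⟩
  obtain ⟨l, hl⟩ := IsPGroup.iff_orderOf.mp hsp ⟨s, Subgroup.mem_zpowers s⟩
  rw [← Subgroup.orderOf_coe] at hl
  change orderOf s = 2 ^ l at hl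
  have hl0 : l ≠ 0 := fun h => hs1 (orderOf_eq_one_iff.mp (by rw [hl, h, pow_zero]))
  set j := 2 ^ (l - 1)
  set s' : ↥H := ⟨s, hs⟩ ^ j
  have hs'2 : orderOf s' = 2 := by
    rw [← Subgroup.orderOf_coe, Subgroup.coe_pow, orderOf_pow' _ (by positivity), hl,
      Nat.gcd_eq_right (pow_dvd_pow 2 (by omega)), Nat.pow_div (by omega) two_pos,
      show l - (l - 1) = 1 by omega, pow_one]
  let π : ↥H →* Cfsg.Sz F m :=
    ((Suzuki.lieEquiv hm hF).symm.toMonoidHom.comp e.toMonoidHom).comp (QuotientGroup.mk' _)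
  have hπ : Function.Surjective π :=
    ((Suzuki.lieEquiv hm hF).symm.surjective.comp e.surjective).comp (QuotientGroup.mk'_surjective _)
  have hπs : orderOf (π s') = 2 := by
    refine orderOf_eq_prime ?_ fun h => ?_
    · rw [← map_pow, ← hs'2, pow_orderOf_eq_one, map_one]
    · have hmem : s' ∈ Cfsg.pPrimeCore 2 ↥H := by
        rw [← QuotientGroup.eq_one_iff]
        exact (map_eq_one_iff _ e.injective).mp ((map_eq_one_iff _ (Suzuki.lieEquiv hm hF).symm.injective).mp h)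
      have h2 := Subgroup.orderOf_dvd_natCard _ hmem
      rw [hs'2] at h2
      exact (Nat.prime_two.coprime_iff_not_dvd.mp (Cores.coprime_card_pPrimeCore (G := ↥H) 2).symm) h2
  obtain ⟨r, a, b, hr, hr2, hab, ha, hb, hd⟩ := exists_sz_big hm hF
  obtain ⟨ga, hga⟩ := isConj_iff.mp ((Suzuki.isConj_invol hm hF one_ne_zero hπs).symm.trans
    (Suzuki.isConj_invol hm hF one_ne_zero ha))
  obtain ⟨gb, hgb⟩ := isConj_iff.mp ((Suzuki.isConj_invol hm hF one_ne_zero hπs).symm.trans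
    (Suzuki.isConj_invol hm hF one_ne_zero hb))
  obtain ⟨ha', hha⟩ := hπ ga
  obtain ⟨hb', hhb⟩ := hπ gb
  have hz : orderOf (π ((List.ofFn fun i : Fin 2 =>
      (![ha', hb'] i) * s' * (![ha', hb'] i)⁻¹).prod ^ 1)) = r ^ (0 + 1) := by
    simp only [List.ofFn_succ, List.ofFn_zero, List.prod_cons, List.prod_nil, mul_one,
      Matrix.cons_val_zero, Matrix.cons_val_succ, pow_one, zero_add, map_mul, map_inv, hha, hhb]
    rw [hga, hgb, hab]
  obtain ⟨h1, h2⟩ := pow_le_of_conjugates hV hHV hf π s' ![ha', hb'] 1 hr hr2 hz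
    (fun d hd0 hdvd => hd d hd0 (by simpa using hdvd))
  rw [← pow_mul, ← pow_mul]
  refine ⟨?_, by rw [mul_comm]; exact h2⟩
  have hle : (V ⊓ Subgroup.centralizer ({(s' : G)} : Set G)).relIndex V ≤
      (V ⊓ Subgroup.centralizer ({s} : Set G)).relIndex V := by
    refine Subgroup.relIndex_le_of_le_left (fun v hv => ⟨hv.1, fun u hu => ?_⟩) fun h => ?_
    · rw [Set.mem_singleton_iff.mp hu]
      exact ((show Commute s v from hv.2 s rfl).pow_left j).eq
    · have := Subgroup.relIndex_dvd_card (V ⊓ Subgroup.centralizer ({s} : Set G)) V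
      rw [h, zero_dvd_iff] at this
      exact Nat.card_pos.ne' this
  rw [show 4 * (2 * m + 1) = (2 * m + 1) * 2 * 2 by ring, pow_mul _ _ 2] at h1
  exact (le_of_pow_le_pow_left₀ two_ne_zero (Nat.zero_le _) h1).trans hle

end Cfsg.Agent.NatSL2
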